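import Cfsg.Agent.FS.N.M.K.eLa3

/-!
# The entries on `eLa3` (helper44, project FS/N; generated)
-/

set_option autoImplicit false

namespace Cfsg.Agent.FS.N.M

open Cfsg Cfsg.Agent.FS.Real

/-- the entries and the numbers of their models -/
def E_eLa3 : List (Ent × ℕ) := [(⟨eLa3, 1, 0⟩, 1), (⟨eLa3, 2, 0⟩, 1), (⟨eLa3, 3, 0⟩, 2)]

theorem E_eLa3_ok : ∀ q ∈ E_eLa3, Models2 q.1 q.2 ∧ q.1.D.Ok :=
  List.forall_mem_cons.2 ⟨⟨models_eLa3_1, eLa3_ok⟩,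
  List.forall_mem_cons.2 ⟨⟨models_eLa3_2, eLa3_ok⟩,
  List.forall_mem_cons.2 ⟨⟨models_eLa3_3, eLa3_ok⟩,
  fun _ h => nomatch h⟩⟩⟩

end Cfsg.Agent.FS.N.M
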