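import Cfsg.Agent.FS.N.M.E.dD64
import Cfsg.Agent.FS.N.Sp.Old

/-!
# The entries on `dD64` (helper44, project FS/N; generated)
-/

set_option autoImplicit false

namespace Cfsg.Agent.FS.N.M

open Cfsg Cfsg.Agent.FS.Real

/-- the entries and the numbers of their models -/
def E_dD64 : List (Ent × ℕ) := [(⟨dD64, 0, 0⟩, 1), (⟨dD64, 2, 0⟩, 1)]

theorem E_dD64_ok : ∀ q ∈ E_dD64, Models2 q.1 q.2 ∧ q.1.D.Ok :=
  List.forall_mem_cons.2 ⟨⟨Sp.models2_D64, dD64_ok⟩,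
  List.forall_mem_cons.2 ⟨⟨models_dD64_2, dD64_ok⟩,
  fun _ h => nomatch h⟩⟩

end Cfsg.Agent.FS.N.M
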