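import Cfsg.Agent.FS.N.M.E.eLd2

/-!
# The entries on `eLd2` (helper44, project FS/N; generated)
-/

set_option autoImplicit false

namespace Cfsg.Agent.FS.N.M

open Cfsg Cfsg.Agent.FS.Real

/-- the entries and the numbers of their models -/
def E_eLd2 : List (Ent × ℕ) := [(⟨eLd2, 1, 0⟩, 1)]

theorem E_eLd2_ok : ∀ q ∈ E_eLd2, Models2 q.1 q.2 ∧ q.1.D.Ok :=
  List.forall_mem_cons.2 ⟨⟨models_eLd2_1, eLd2_ok⟩,
  fun _ h => nomatch h⟩

end Cfsg.Agent.FS.N.M
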