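import Cfsg.Agent.FS.N.M.K.eLc9

/-!
# The entries on `eLc9` (helper44, project FS/N; generated)
-/

set_option autoImplicit false

namespace Cfsg.Agent.FS.N.M

open Cfsg Cfsg.Agent.FS.Real

/-- the entries and the numbers of their models -/
def E_eLc9 : List (Ent × ℕ) := [(⟨eLc9, 1, 0⟩, 1), (⟨eLc9, 2, 0⟩, 1), (⟨eLc9, 3, 0⟩, 2)]

theorem E_eLc9_ok : ∀ q ∈ E_eLc9, Models2 q.1 q.2 ∧ q.1.D.Ok :=
  List.forall_mem_cons.2 ⟨⟨models_eLc9_1, eLc9_ok⟩,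
  List.forall_mem_cons.2 ⟨⟨models_eLc9_2, eLc9_ok⟩,
  List.forall_mem_cons.2 ⟨⟨models_eLc9_3, eLc9_ok⟩,
  fun _ h => nomatch h⟩⟩⟩

end Cfsg.Agent.FS.N.M
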